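import Cfsg.Agent.FT.BG12.T13

/-! Bender-Glauberman 12.14 - 12.17. -/

set_option autoImplicit false
set_option linter.unusedSectionVars false

open Pointwise Cfsg Cfsg.Lib.Solv

namespace Cfsg.Lib.FT

variable {G : Type*} [Group G] [Finite G]

/-- 12.14 -/
theorem cent_der_sigma_uniq (hG : IsMinSimpleOddOrder G) {M X : Subgroup G} (hM : IsCoatom M)
    {p : ℕ} (hp : p.Prime) (hX : X ∈ Elem p 1 M)
    (h : p ∈ beta M ∨ X ≤ ⁅sigmaCore M, sigmaCore M⁆) :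
    UniqMax (𝐂 X) M ∧ ∀ P : Subgroup G, IsSylowOf p P (sigmaCore M) → UniqMax P M := by
  have := Fact.mk hp
  have hX1 := X12.elem1_ne_bot hp hX
  have hs : p ∈ sigma M := by
    rcases h with h | h
    · exact beta_sub_sigma hG hM h
    · exact Msigma_pgroup M p hp (X12.elem_dvd (X10.elem_mono hX (h.trans (der_sub _))))
  obtain ⟨P, hP, hXP⟩ := Sylow_superset (sub_Msigma hG hM hX.1 (X12.elem_pi hp hX hs))
    (X10.elem_pgroup hX)
  have hPp := Sylow_pgroup hP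
  have hPM := subHall_Sylow (Msigma_Hall hG hM) hs hP
  have hu : InUniqueMaximal (P ⊓ 𝐂 X) := by
    by_cases hr : pRank p (P ⊓ 𝐂 X) ≤ 2
    swap
    · exact rank3_Uniqueness hG (sub_mmax_proper hM (inf_le_left.trans hPM.1))
        (le_trans (by omega) (p_rank_le_rank p _))
    have hnar : IsNarrow p P := by
      by_cases hr' : pRank p P ≤ 2
      · exact rank2_narrow hp hr'
      · exact (narrow_centP hp hPp (mFT_odd hG P) (by omega)).2 ⟨X, hXP, X10.elem1_card hX, hr⟩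
    have hβ : p ∉ beta M := fun hb => (mem_beta_iff_not_narrow hG hM hp hPM).1 hb hnar
    have hXd : X ≤ ⁅P, P⁆ := by
      have h1 := (beta_max_pdiv hG hM hp hβ).2.1
      have := pprod_focal_coprime (sdprod_normal_p'Hall (pcore_normal _ _) h1 hP).sup
        (pcore_normal _ _).2 hXP (X12.elem_coprime hp hX (pcore_pgroup _ _) (by simp))
      rw [inf_eq_left.2 (h.resolve_left hβ)] at this
      exact this.le.trans inf_le_right
    have hna : ¬ IsMulCommutative P := fun hab =>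
      hX1 (le_bot_iff.1 (hXd.trans (abelian_iff_der.1 hab).le))
    have hr' : rank P ≤ 2 := by
      by_contra hr'
      rw [rank_pgroup hPp] at hr'
      have := (narrow_cent_dprod hp hPp (mFT_odd hG P) (by omega) (X10.elem1_card hX) hXP hr).2.1
      exact hX1 (inf_eq_left.2 hXd ▸ this)
    obtain ⟨Q, -, -, -, -, hO, -, -, hd⟩ := X12.rank2_Sylow hG hp (sigma_Sylow_G hs hPM) hr' hna
    rw [inf_eq_left.2 (centsC.1 (hXd.trans (hd.le.trans (hO.ge.trans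
      ((Ohm_sub _ _).trans inf_le_right)))))]
    exact nonabelian_Uniqueness hG hp hPp hna
  have hu' := def_uniq_mmax hu hM (inf_le_left.trans hPM.1)
  refine ⟨def_uniq_mmaxS inf_le_right (mFT_cent_proper hG hX1) hu', fun P' hP' => ?_⟩
  obtain ⟨g, hg, rfl⟩ := Sylow_trans hP hP'
  have := def_uniq_mmaxJ g (hu'.mono inf_le_left hPM.1)
  rwa [conjGid ((Msigma_normal M).1 hg)] at this

theorem X12.not_beta (hG : IsMinSimpleOddOrder G) {M : Subgroup G} (hM : IsCoatom M) {p : ℕ}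
    (hs : p ∈ sigma M) (h : p ∉ beta M) : ¬ IsIdealPrime p G := fun h' =>
  h (predI_sigma_beta hG hM ▸ ⟨hs, h'⟩)

/-- 12.15 -/
theorem sigma_subgroup_embedding (hG : IsMinSimpleOddOrder G) {M X Mstar : Subgroup G}
    (hM : IsCoatom M) {q : ℕ} (hq : q ∈ sigma M) (hXM : X ≤ M) (hX : IsPGroup q X)
    (hX1 : X ≠ ⊥) (hMstar : IsCoatom Mstar) (hN : 𝐍 X ≤ Mstar) (hne : Mstar ≠ M) :
    ¬ ConjIn ⊤ M Mstar ∧
      (∀ S : Subgroup G, IsSylowOf q S (M ⊓ Mstar) → X ≤ S → 𝐍 S ≤ M ∧ IsSylowOf q S Mstar) ∧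
      (q ∈ sigma Mstar →
        betaCore Mstar ⊔ (M ⊓ Mstar) = Mstar ∧ tau1 Mstar ⊆ tau1 M ∪ alpha M ∧
          betaCore M = alphaCore M ∧ alphaCore M ≠ ⊥) ∧
      (q ∉ sigma Mstar →
        q ∈ tau2 Mstar ∧ piOf (Nat.card M) ∩ sigma Mstar ⊆ beta Mstar ∧
          IsPiHallOf (sigma Mstar)ᶜ (M ⊓ Mstar) Mstar) := by
  have hq' := sigma_prime hq
  have := Fact.mk hq'
  have hXH := (normG X).trans hN
  have hbc : ∀ S : Subgroup G, IsSylowOf q S (M ⊓ Mstar) → X ≤ S →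
      𝐍 S ≤ M ∧ IsSylowOf q S Mstar := by
    intro S hS hXS
    have hSq := Sylow_pgroup hS
    have hNS : 𝐍 S ≤ M := by
      by_cases hc : IsCyclic S
      · refine norm_sigma_Sylow hq ((Sylow_subnorm (hS.1.trans inf_le_left)).1 ?_)
        exact pHall_subl (le_inf (hS.1.trans inf_le_left) (normG S))
          (inf_le_inf_left _ ((sub_cyclic_char hc hXS).trans hN)) hS
      · exact norm_noncyclic_sigma hG hM hq hSq (hS.1.trans inf_le_left) hc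
    refine ⟨hNS, (Sylow_subnorm (hS.1.trans inf_le_right)).1 ?_⟩
    exact pHall_subl (le_inf (hS.1.trans inf_le_right) (normG S))
      (le_inf (inf_le_right.trans hNS) inf_le_left) hS
  obtain ⟨S, hS, hXS⟩ := Sylow_superset (le_inf hXM hXH) hX
  obtain ⟨hNS, hSH⟩ := hbc S hS hXS
  have hnJ := mmax_norm_notJ hG hM hMstar hX hXM hN (Or.inl ⟨hq, hne.symm⟩)
  refine ⟨hnJ, hbc, fun hs => ?_, fun hs => ?_⟩
  · have hSG := sigma_Sylow_G hs hSH
    have hNH := norm_sigma_Sylow hs hSH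
    obtain ⟨dH, -⟩ := nonuniq_norm_Sylow_pprod hG hMstar hM hne.symm hq' hSG (le_inf hNS hNH)
    obtain ⟨dM, eM⟩ := nonuniq_norm_Sylow_pprod hG hM hMstar hne hq' hSG (le_inf hNH hNS)
    have eab : betaCore M = alphaCore M := by rw [betaCore_def, alphaCore_def, eM]
    rw [inf_comm] at dM
    refine ⟨dH, fun r hr => ?_, eab, fun e => ?_⟩
    · by_cases ha : r ∈ alpha M
      · exact Or.inr ha
      left
      have := Fact.mk hr.1
      obtain ⟨R, hR⟩ := Sylow_exists r (M ⊓ Mstar)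
      have hRH : IsSylowOf r R Mstar := X12.pHall_of_sup dH
        (inf_le_right.trans (Mbeta_normal _).2)
        (pi_p'group (Mbeta_pgroup _) fun h => hr.2.1 (beta_sub_sigma hG hMstar h)) hR
      have hKr : IsPiSubgroup ({r}ᶜ : Set ℕ) (betaCore M) :=
        pi_p'group (Mbeta_pgroup _) fun h => ha (beta_sub_alpha M h)
      have hRM : IsSylowOf r R M := X12.pHall_of_sup dM
        (inf_le_left.trans (Mbeta_normal _).2) hKr hR
      have hd : ¬ r ∣ Nat.card ↥⁅M, M⁆ := by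
        rw [← Sylow_eq_bot_iff (setI_normal_Hall (der_normal M) hRM),
          pprod_focal_coprime dM (Mbeta_normal _).2 hR.1 (p'nat_coprime hKr hR.2.1), ← le_bot_iff,
          ← (Sylow_eq_bot_iff (setI_normal_Hall (der_normal Mstar) hRH)).2 hr.2.2.2.1]
        exact inf_le_inf_left _ (dergS inf_le_right)
      refine mem_tau1_iff.2 ⟨hr.1, fun h => hd ?_, ?_, hd⟩
      · exact (mem_pi_of_Hall_dvd (Msigma_Hall hG hM) hr.1 h (sigma_sub_pi M h).2).trans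
          (cardSg (Msigma_der1 hG hM))
      · rw [← p_rank_Sylow hRM, p_rank_Sylow hRH, (mem_tau1_iff.1 hr).2.2.1]
    · rw [eab, e, bot_sup_eq, inf_eq_left] at dM
      exact hne (eq_mmax hM hMstar dM).symm
  · have hq2 := (prime_class_mmax_norm hG hMstar hq' hX hN).resolve_left hs
    obtain ⟨A, hA⟩ := (X10.le_pRank_iff hq').1
      ((p_rank_Sylow hSH).trans (mem_tau2_iff.1 hq2).2.2).ge
    have hAH := X12.elemS hSH.1 hA
    have hAM : A ≤ M := hA.1.trans (hS.1.trans inf_le_left)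
    obtain ⟨E, hE, hAE⟩ := ex_sigma_compl hG hMstar hAH.1 (X12.elem_pi hq' hA hs)
    obtain ⟨⟨nA, -⟩, ⟨hCA, -⟩, -⟩ := tau2_compl_context hG hMstar hE hq2 (X10.elem_mono hA hAE)
    have hEM : E ≤ M := nA.2.trans (norm_noncyclic_sigma hG hM hq (X10.elem_pgroup hA) hAM
      (X12.elem2_noncyclic hq' hA))
    obtain ⟨-, -, hC, hti, -⟩ := tau2_context hG hMstar hq2 hAH
    have hdE : E = M ⊓ Mstar := (sdprod_sigma hG hMstar hE).eq_of_le_of_inf_eq_bot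
      (le_inf hEM hE.1) inf_le_right
      (le_bot_iff.1 ((inf_le_inf_left _ inf_le_left).trans (hti M hM hAM hne.symm).le))
    refine ⟨hq2, fun p hp => ?_, hdE ▸ hE⟩
    obtain ⟨⟨hp, hpM⟩, hps⟩ := hp
    by_contra hβ
    have hqG := (tau2_not_beta hG hMstar hq2).1
    rcases lt_trichotomy p q with hlt | e | hlt
    · obtain ⟨⟨P, hP, hAP⟩, -⟩ := beta'_cent_Sylow hG hMstar hp hq' hβ (fun h => hqG h.2)
        (X10.elem_pgroup hA) (Or.inr ⟨hlt, hAH.1⟩)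
      exact sigma_Sylow_neq1 hps (subHall_Sylow (Msigma_Hall hG hMstar) hps hP)
        (le_bot_iff.1 ((le_inf hP.1 (centsC.1 hAP)).trans hC.le))
    · exact hs (e ▸ hps)
    · obtain ⟨Y, hY⟩ := X12.ex_elem1 hp hpM
      obtain ⟨⟨Q, hQ, hYQ⟩, -⟩ := beta'_cent_Sylow hG hM hq' hp (fun h => hqG h.2)
        (fun h => X12.not_beta hG hMstar hps hβ h.2) (X10.elem_pgroup hY) (Or.inr ⟨hlt, hY.1⟩)
      obtain ⟨g, -, hg⟩ := Sylow_Jsub (subHall_Sylow (Msigma_Hall_G hG hM) hq hQ) le_top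
        (X10.elem_pgroup hA)
      have h1 := X12.elem_dvd (X10.elem_mono hY (hYQ.trans (centS hg)))
      rw [centJ, card_conj_smul] at h1
      exact hE.2.1 p hp (h1.trans (cardSg hCA)) hps

theorem X12.sigma_Jsub_aux (hG : IsMinSimpleOddOrder G) {M Y : Subgroup G} (hM : IsCoatom M)
    (hY : IsPiSubgroup (sigma M) Y) {q : ℕ} (hq : q ∈ sigma M) (hX1 : piCoreOf {q} Y ≠ ⊥)
    (hXM : piCoreOf {q} Y ≤ sigmaCore M) :
    (∃ x : G, x •ᶜ Y ≤ sigmaCore M) ∧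
      ∀ (E : Subgroup G) (p : ℕ) (H : Subgroup G), IsPiHallOf (sigma M)ᶜ E M →
        p ∈ piOf (Nat.card E) → ¬ IsIdealPrime p G → IsCoatom H → Y ≤ H → ¬ ConjIn ⊤ M H →
        pRank p (H ⊓ 𝐍 Y) ≤ 1 ∧ (p ∈ tau1 M → ¬ p ∣ Nat.card ↥⁅H ⊓ 𝐍 Y, H ⊓ 𝐍 Y⁆) := by
  have := Fact.mk (sigma_prime hq)
  have hNY : 𝐍 Y ≤ 𝐍 (piCoreOf {q} Y) := norm_pcore _ _
  have hXY : piCoreOf {q} Y ≤ Y := pcore_sub _ _
  have hXq := pcore_isPGroup q Y
  set X := piCoreOf {q} Y with hXdef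
  have pre : ∀ (p : ℕ) (H : Subgroup G), p.Prime → p ∉ sigma M → IsCoatom H → Y ≤ H →
      ¬ ConjIn ⊤ M H → pRank p (M ⊓ H) ≤ 1 := by
    intro p H hp hps hH hYH hnJ
    by_contra hr
    obtain ⟨A, hA⟩ := (X10.le_pRank_iff (n := 2) hp).1 (by omega : 2 ≤ pRank p (M ⊓ H))
    have hAM := X12.elemS inf_le_left hA
    have := (tau2_context hG hM (sigma'2Elem_tau2' hG hM hp hps hAM) hAM).2.2.2.1 H hH
      (hA.1.trans inf_le_right) (X12.notJ_ne hnJ)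
    exact hX1 (le_bot_iff.1 ((le_inf hXM (hXY.trans hYH)).trans this.le))
  by_cases hNM : 𝐍 X ≤ M
  · refine ⟨⟨1, ?_⟩, fun E p H hE hp _ hH hYH hnJ => ⟨?_, fun h1 hd => ?_⟩⟩
    · rw [conj_one_smul]
      exact sub_Msigma hG hM ((normG Y).trans (hNY.trans hNM)) hY
    · exact (X10.pRankS hp.1 (le_inf (inf_le_right.trans (hNY.trans hNM)) inf_le_left)).trans
        (pre p H hp.1 (hE.2.1 p hp.1 hp.2) hH hYH hnJ)
    · exact h1.2.2.2.1 (hd.trans (cardSg (dergS (inf_le_right.trans (hNY.trans hNM)))))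
  obtain ⟨L, hL, hXL⟩ := mmax_exists_norm hG hX1 (mFT_pgroup_proper hG hXq)
  obtain ⟨hnJ, -, hd, he⟩ := sigma_subgroup_embedding hG hM hq (hXM.trans (Msigma_normal M).1) hXq
    hX1 hL hXL (fun e => hNM (e ▸ hXL))
  obtain ⟨K, hKσ, nK, dL, hKp⟩ : ∃ K : Subgroup G, IsPiSubgroup (sigma M)ᶜ K ∧ L ≤ 𝐍 K ∧
      K ⊔ (M ⊓ L) = L ∧ ∀ p, p ∈ piOf (Nat.card M) → ¬ IsIdealPrime p G →
        IsPiSubgroup ({p}ᶜ : Set ℕ) K := by
    obtain ⟨-, h1, h2⟩ := sigma_disjoint hG hL hM fun h => hnJ h.symm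
    by_cases hs : q ∈ sigma L
    · exact ⟨betaCore L, sub_pgroup (fun r hr => Set.disjoint_left.1 h1 (beta_sub_alpha L hr))
        (Mbeta_pgroup L), (Mbeta_normal L).2, (hd hs).1,
        fun p _ hb => pi_p'group (Mbeta_pgroup L) fun h => hb h.2⟩
    · obtain ⟨e1, e2, e3⟩ := he hs
      exact ⟨sigmaCore L, sub_pgroup (fun r hr =>
        Set.disjoint_left.1 (h2 (tau2_Msigma_nil hG hL e1)).2 hr) (Msigma_pgroup L),
        (Msigma_normal L).2, (sdprod_sigma hG hL e3).sup,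
        fun p hp hb => pi_p'group (Msigma_pgroup L) fun h => hb (e2 ⟨hp, h⟩).2⟩
  have hYL : Y ≤ L := (normG Y).trans (hNY.trans hXL)
  have nK' : M ⊓ L ≤ 𝐍 K := inf_le_right.trans nK
  refine ⟨?_, fun E p H hE hp hb hH hYH _ => ?_⟩
  · obtain ⟨H, hH⟩ := Hall_exists (sigma M) (sub_mmax_sol hG hM (inf_le_left : M ⊓ L ≤ M))
    obtain ⟨x, -, hx⟩ := Hall_Jsub (mmax_sol hG hL) (X12.pHall_of_sup dL nK' hKσ hH) hYL hY
    exact ⟨x, hx.trans (sub_Msigma hG hM (hH.1.trans inf_le_left) hH.2.1)⟩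
  · have := Fact.mk hp.1
    have hKp' := hKp p ⟨hp.1, hp.2.trans (cardSg hE.1)⟩ hb
    have hle : H ⊓ 𝐍 Y ≤ L := inf_le_right.trans (hNY.trans hXL)
    refine ⟨(p_rankS p hle).trans ?_, fun h1 hd => ?_⟩
    · rw [← dL, p_rank_sup_p'group nK' hKp']
      exact pre p L hp.1 (hE.2.1 p hp.1 hp.2) hL hYL hnJ
    · have h2 : IsPiSubgroup ({p}ᶜ : Set ℕ) (K ⊔ ⁅M ⊓ L, M ⊓ L⁆) :=
        pgroupY ((der_sub _).trans nK') hKp'
          (pgroupS (dergS inf_le_left) ((p'groupE hp.1).2 h1.2.2.2.1))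
      have h3 := der_sup_le nK'
      rw [dL] at h3
      exact (p'groupE hp.1).1 h2 (hd.trans (cardSg ((dergS hle).trans h3)))

/-- 12.16 -/
theorem sigma_Jsub (hG : IsMinSimpleOddOrder G) {M Y : Subgroup G} (hM : IsCoatom M)
    (hY : IsPiSubgroup (sigma M) Y) (hY1 : Y ≠ ⊥) :
    (∃ x : G, x •ᶜ Y ≤ sigmaCore M) ∧
      ∀ (E : Subgroup G) (p : ℕ) (H : Subgroup G), IsPiHallOf (sigma M)ᶜ E M →
        p ∈ piOf (Nat.card E) → ¬ IsIdealPrime p G → IsCoatom H → Y ≤ H → ¬ ConjIn ⊤ M H →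
        pRank p (H ⊓ 𝐍 Y) ≤ 1 ∧ (p ∈ tau1 M → ¬ p ∣ Nat.card ↥⁅H ⊓ 𝐍 Y, H ⊓ 𝐍 Y⁆) := by
  have hYG : Y ≠ ⊤ := by
    rintro rfl
    exact hM.1 (top_le_iff.1 ((pHall_eq_self (Msigma_Hall_G hG hM) hY).ge.trans (Msigma_normal M).1))
  obtain ⟨q, hq', hX1⟩ := X12.ex_pcore_ne_bot (mFT_sol hG hYG) hY1
  have := Fact.mk hq'
  have hq : q ∈ sigma M :=
    mem_of_pgroup_of_ne_bot (pcore_isPGroup q Y) hX1 (pgroupS (pcore_sub _ _) hY)
  obtain ⟨Q, hQ⟩ := Sylow_exists q (sigmaCore M)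
  obtain ⟨g, -, hg⟩ := Sylow_subJ (subHall_Sylow (Msigma_Hall_G hG hM) hq hQ) le_top
    (pcore_isPGroup q Y)
  obtain ⟨⟨x, hx⟩, h⟩ := X12.sigma_Jsub_aux hG ((mmaxJ g).2 hM) (by rwa [sigmaJ]) (q := q)
    (by rwa [sigmaJ]) hX1 (by rw [MsigmaJ]; exact hg.trans ((conjSg g).2 hQ.1))
  refine ⟨⟨g⁻¹ * x, ?_⟩, fun E p H hE hp hb hH hYH hnJ => ?_⟩
  · rw [conj_mul_smul, conj_smul_le_iff_le_conj_inv_smul, inv_inv, ← MsigmaJ]
    exact hx
  · have := h (g •ᶜ E) p H (by rwa [sigmaJ, pHallJ2]) (by rwa [card_conj_smul]) hb hH hYH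
      fun h' => hnJ ((ConjIn.of_conj (Subgroup.mem_top g) M).trans h')
    rwa [tau1J] at this

/-- 12.17 -/
theorem sigma_compl_embedding (hG : IsMinSimpleOddOrder G) {M E : Subgroup G} (hM : IsCoatom M)
    (hE : IsPiHallOf (sigma M)ᶜ E M) :
    sigmaCore M ⊓ 𝐂 E ≤ ⁅sigmaCore M, sigmaCore M⁆ ∧ ⁅sigmaCore M, E⁆ = sigmaCore M ∧
      ∀ g : G, g ∉ M →
        IsCyclic ↥(sigmaCore M ⊓ g •ᶜ M) ∧ IsPiSubgroup (beta M)ᶜ (sigmaCore M ⊓ g •ᶜ M) ∧
          (sigmaCore M ⊓ g •ᶜ M) ⊓ ⁅sigmaCore M, sigmaCore M⁆ = ⊥ := by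
  obtain ⟨h1, h2⟩ := X12.coprime_der1_sdprod (sdprod_sigma hG hM hE) (coprime_sigma_compl hG hM hE)
    (mmax_sol hG hM) (Msigma_der1 hG hM)
  refine ⟨h2, h1, fun g hg => ?_⟩
  have key : ∀ (p n : ℕ) (X : Subgroup G), p.Prime → X ∈ Elem p (n + 1) (sigmaCore M ⊓ g •ᶜ M) →
      ¬ 𝐂 X ≤ M := by
    intro p n X hp hX hC
    refine hg (M.inv_mem_iff.1 (sigma_cent_sub_trans hG hM
      (Msigma_pgroup M p hp (X12.elem_dvd (X12.elemS inf_le_left hX))) (X10.elem_pgroup hX)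
      (hX.1.trans (inf_le_left.trans (Msigma_normal M).1)) hC ?_))
    rw [conj_smul_le_iff_le_conj_inv_smul, inv_inv]
    exact hX.1.trans inf_le_right
  have hM' : sigmaCore M ⊓ g •ᶜ M ≤ M := inf_le_left.trans (Msigma_normal M).1
  have hti : (sigmaCore M ⊓ g •ᶜ M) ⊓ ⁅sigmaCore M, sigmaCore M⁆ = ⊥ := by
    by_contra hne
    obtain ⟨p, hp, hd⟩ := exists_prime_dvd_card hne
    obtain ⟨X, hX⟩ := X12.ex_elem1 hp hd
    exact key p 0 X hp (X12.elemS inf_le_left hX) (cent_der_sigma_uniq hG hM hp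
      (X12.elemS (inf_le_left.trans hM') hX) (Or.inr (hX.1.trans inf_le_right))).1.2.1
  refine ⟨?_, fun p hp hd hb => ?_, hti⟩
  · rw [abelian_rank1_cyclic (abelian_iff_der.2 (le_bot_iff.1
      ((le_inf (der_sub _) (dergS inf_le_left)).trans hti.le)))]
    by_contra hr
    obtain ⟨p, hp, A, hA⟩ := (rank_geP (n := 2)).1 (by omega : 2 ≤ rank (sigmaCore M ⊓ g •ᶜ M))
    exact key p 1 A hp hA (p2Elem_mmax hG hM hp (X12.elemS hM' hA)).1
  · obtain ⟨X, hX⟩ := X12.ex_elem1 hp hd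
    exact key p 0 X hp hX (cent_der_sigma_uniq hG hM hp (X12.elemS hM' hX) (Or.inl hb)).1.2.1

end Cfsg.Lib.FT
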