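import Cfsg.Agent.FT.BG12.Tools
import Cfsg.Agent.FT.BG12Defs
import Cfsg.Agent.FT.BG1
import Cfsg.Agent.FT.BG4
import Cfsg.Agent.FT.BG10

/-! Bender-Glauberman section 12: introduction, Lemmas 12.1 and 12.2. -/

set_option autoImplicit false
set_option linter.unusedSectionVars false

open Pointwise Cfsg Cfsg.Lib.Solv

namespace Cfsg.Lib.FT

variable {G : Type*} [Group G] [Finite G]

theorem X12.rank1_cyclic {P : Subgroup G} {p : ℕ} (hp : p.Prime) (hP : IsPGroup p P)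
    (ho : Odd (Nat.card P)) (hr : pRank p P ≤ 1) : IsCyclic P := by
  by_contra h
  obtain ⟨S, -, hS⟩ := ex_odd_normal_p2Elem hp hP ho h
  have := X12.le_pRank hp hS
  omega

theorem X12.ex_elem2 (hG : IsMinSimpleOddOrder G) {P : Subgroup G} {p : ℕ} (hp : p.Prime)
    (hP : IsPGroup p P) (h : ¬ IsCyclic P) : ∃ A, A ∈ Elem p 2 P := by
  obtain ⟨S, -, hS⟩ := ex_odd_normal_p2Elem hp hP (X10.odd hG P) h
  exact ⟨S, hS⟩

theorem mem_tau1_iff {M : Subgroup G} {p : ℕ} :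
    p ∈ tau1 M ↔ p.Prime ∧ p ∉ sigma M ∧ pRank p M = 1 ∧ ¬ p ∣ Nat.card ↥⁅M, M⁆ := by
  constructor
  · rintro ⟨hp, h1, h2, h3, h4⟩
    exact ⟨hp, h1, le_antisymm ((X10.pRank_le_iff hp).2 h4) ((X10.pRank_pos_iff hp).2 h2), h3⟩
  · rintro ⟨hp, h1, h2, h3⟩
    exact ⟨hp, h1, (X10.pRank_pos_iff hp).1 h2.ge, h3, (X10.pRank_le_iff hp).1 h2.le⟩

theorem mem_tau2_iff {M : Subgroup G} {p : ℕ} :
    p ∈ tau2 M ↔ p.Prime ∧ p ∉ sigma M ∧ pRank p M = 2 := by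
  constructor
  · rintro ⟨hp, h1, h2, h3⟩
    rw [← X10.pRank_le_iff hp] at h2 h3
    exact ⟨hp, h1, by omega⟩
  · rintro ⟨hp, h1, h2⟩
    refine ⟨hp, h1, (X10.pRank_le_iff hp).1 h2.le, ?_⟩
    rw [← X10.pRank_le_iff hp]; omega

theorem mem_tau3_iff {M : Subgroup G} {p : ℕ} :
    p ∈ tau3 M ↔ p.Prime ∧ p ∉ sigma M ∧ pRank p M = 1 ∧ p ∣ Nat.card ↥⁅M, M⁆ := by
  constructor
  · rintro ⟨hp, h1, h2, h3⟩
    exact ⟨hp, h1, le_antisymm ((X10.pRank_le_iff hp).2 h3)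
      ((X10.pRank_pos_iff hp).2 (h2.trans (cardSg (der_sub M)))), h2⟩
  · rintro ⟨hp, h1, h2, h3⟩
    exact ⟨hp, h1, h3, (X10.pRank_le_iff hp).1 h2.le⟩

theorem tau1J (M : Subgroup G) (g : G) : tau1 (g •ᶜ M) = tau1 M := by
  ext p
  rw [mem_tau1_iff, mem_tau1_iff, sigmaJ, ← conj_smul_commutator, card_conj_smul]
  exact and_congr_right fun hp => by rw [X10.pRankJ hp]

theorem tau2J (M : Subgroup G) (g : G) : tau2 (g •ᶜ M) = tau2 M := by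
  ext p
  rw [mem_tau2_iff, mem_tau2_iff, sigmaJ]
  exact and_congr_right fun hp => by rw [X10.pRankJ hp]

theorem tau3J (M : Subgroup G) (g : G) : tau3 (g •ᶜ M) = tau3 M := by
  ext p
  rw [mem_tau3_iff, mem_tau3_iff, sigmaJ, ← conj_smul_commutator, card_conj_smul]
  exact and_congr_right fun hp => by rw [X10.pRankJ hp]

theorem tau1_sub_sigma' (M : Subgroup G) : tau1 M ⊆ (sigma M)ᶜ := fun _ h => h.2.1
theorem tau2_sub_sigma' (M : Subgroup G) : tau2 M ⊆ (sigma M)ᶜ := fun _ h => h.2.1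
theorem tau3_sub_sigma' (M : Subgroup G) : tau3 M ⊆ (sigma M)ᶜ := fun _ h => h.2.1
theorem tau2'1 (M : Subgroup G) : tau1 M ⊆ (tau2 M)ᶜ := fun _ h h' => h'.2.2.2 h.2.2.2.2
theorem tau3'1 (M : Subgroup G) : tau1 M ⊆ (tau3 M)ᶜ := fun _ h h' => h.2.2.2.1 h'.2.2.1
theorem tau3'2 (M : Subgroup G) : tau2 M ⊆ (tau3 M)ᶜ := fun _ h h' => h.2.2.2 h'.2.2.2

theorem tau1_sub_pi (M : Subgroup G) : tau1 M ⊆ piOf (Nat.card M) := fun _ h => ⟨h.1, h.2.2.1⟩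
theorem tau2_sub_pi (M : Subgroup G) : tau2 M ⊆ piOf (Nat.card M) := fun _ h =>
  ⟨h.1, (X10.pRank_pos_iff h.1).1 (by rw [(mem_tau2_iff.1 h).2.2]; norm_num)⟩
theorem tau3_sub_pi (M : Subgroup G) : tau3 M ⊆ piOf (Nat.card M) := fun _ h =>
  ⟨h.1, h.2.2.1.trans (cardSg (der_sub M))⟩

/-- `p`-subgroups of `M` are cyclic for `p ∈ τ₁(M) ∪ τ₃(M)`. -/
theorem tau13_pgroup_cyclic (hG : IsMinSimpleOddOrder G) {M P : Subgroup G} {p : ℕ}
    (hp : p ∈ tau1 M ∪ tau3 M) (hP : IsPGroup p P) (hPM : P ≤ M) : IsCyclic P := by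
  have h : p.Prime ∧ pRank p M = 1 := by
    rcases hp with h | h
    · exact ⟨h.1, (mem_tau1_iff.1 h).2.2.1⟩
    · exact ⟨h.1, (mem_tau3_iff.1 h).2.2.1⟩
  exact X12.rank1_cyclic h.1 hP (X10.odd hG P) ((X10.pRankS h.1 hPM).trans h.2.le)

theorem X12.tau13_nil_cyclic (hG : IsMinSimpleOddOrder G) {M N : Subgroup G} (hNM : N ≤ M)
    (hN : IsPiSubgroup (tau1 M ∪ tau3 M) N) (hn : Group.IsNilpotent N) : IsCyclic N :=
  X12.nil_cyclic_of_Sylow hn fun r hr hd _ hR hRN =>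
    tau13_pgroup_cyclic hG (hN r hr hd) hR (hRN.trans hNM)

theorem SigmaCompl.conj {M E E₁ E₂ E₃ : Subgroup G} (h : SigmaCompl M E E₁ E₂ E₃) (g : G) :
    SigmaCompl (g •ᶜ M) (g •ᶜ E) (g •ᶜ E₁) (g •ᶜ E₂) (g •ᶜ E₃) where
  hallE := by rw [sigmaJ, pHallJ2]; exact h.hallE
  hall1 := by rw [tau1J, pHallJ2]; exact h.hall1
  hall2 := by rw [tau2J, pHallJ2]; exact h.hall2
  hall3 := by rw [tau3J, pHallJ2]; exact h.hall3
  norm12 := by rw [normJ, conjSg]; exact h.norm12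

theorem ex_sigma_compl (hG : IsMinSimpleOddOrder G) {M F : Subgroup G} (hM : IsCoatom M)
    (hFM : F ≤ M) (hF : IsPiSubgroup (sigma M)ᶜ F) :
    ∃ E : Subgroup G, IsPiHallOf (sigma M)ᶜ E M ∧ F ≤ E :=
  Hall_superset (X10.sol hG hM.1) hFM hF

theorem sigma_compl_sol (hG : IsMinSimpleOddOrder G) {M E : Subgroup G} (hM : IsCoatom M)
    (hE : IsPiHallOf (sigma M)ᶜ E M) : Group.IsSolvable E := solvableS hE.1 (X10.sol hG hM.1)

theorem ex_tau13_compl (hG : IsMinSimpleOddOrder G) {M E : Subgroup G} (hM : IsCoatom M)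
    (hE : IsPiHallOf (sigma M)ᶜ E M) :
    (∃ E₁ : Subgroup G, IsPiHallOf (tau1 M) E₁ E) ∧
      ∃ E₃ : Subgroup G, IsPiHallOf (tau3 M) E₃ E :=
  ⟨Hall_exists _ (sigma_compl_sol hG hM hE), Hall_exists _ (sigma_compl_sol hG hM hE)⟩

theorem ex_tau2_compl (hG : IsMinSimpleOddOrder G) {M E E₁ E₃ : Subgroup G} (hM : IsCoatom M)
    (hE : IsPiHallOf (sigma M)ᶜ E M) (h1 : IsPiHallOf (tau1 M) E₁ E)
    (h3 : IsPiHallOf (tau3 M) E₃ E) : ∃ E₂ : Subgroup G, SigmaCompl M E E₁ E₂ E₃ := by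
  have hs := sigma_compl_sol hG hM hE
  obtain ⟨F, hF, h1F⟩ := Hall_superset (π := tau1 M ∪ tau2 M) hs h1.1
    (sub_pgroup Set.subset_union_left h1.2.1)
  have hD : IsPiSubgroup (tau2 M) ⁅F, F⁆ := fun r hr hd => by
    rcases hF.2.1 r hr (hd.trans (cardSg (der_sub F))) with h | h
    · exact absurd (hd.trans (cardSg (dergS (hF.1.trans hE.1)))) h.2.2.2.1
    · exact h
  obtain ⟨E₂, h2, hD2⟩ := Hall_superset (solvableS hF.1 hs) (der_sub F) hD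
  exact ⟨E₂, hE, h1, subHall_Hall hF Set.subset_union_right h2, h3,
    h1F.trans (sub_der1_norm hD2 h2.1)⟩

/-- A `τ₁(M)`-subgroup of `E` lies in the `E₁` of some decomposition. -/
theorem ex_sigmaCompl_of_tau1 (hG : IsMinSimpleOddOrder G) {M E X : Subgroup G} (hM : IsCoatom M)
    (hE : IsPiHallOf (sigma M)ᶜ E M) (hXE : X ≤ E) (hX : IsPiSubgroup (tau1 M) X) :
    ∃ E₁ E₂ E₃ : Subgroup G, SigmaCompl M E E₁ E₂ E₃ ∧ X ≤ E₁ := by
  obtain ⟨E₁, h1, hX1⟩ := Hall_superset (sigma_compl_sol hG hM hE) hXE hX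
  obtain ⟨E₃, h3⟩ := (ex_tau13_compl hG hM hE).2
  obtain ⟨E₂, h⟩ := ex_tau2_compl hG hM hE h1 h3
  exact ⟨E₁, E₂, E₃, h, hX1⟩

theorem X12.ex_sigmaCompl (hG : IsMinSimpleOddOrder G) {M E : Subgroup G} (hM : IsCoatom M)
    (hE : IsPiHallOf (sigma M)ᶜ E M) : ∃ E₁ E₂ E₃ : Subgroup G, SigmaCompl M E E₁ E₂ E₃ := by
  obtain ⟨E₁, E₂, E₃, h, -⟩ := ex_sigmaCompl_of_tau1 hG hM hE bot_le pgroup1
  exact ⟨E₁, E₂, E₃, h⟩

theorem coprime_sigma_compl (hG : IsMinSimpleOddOrder G) {M E : Subgroup G} (hM : IsCoatom M)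
    (hE : IsPiHallOf (sigma M)ᶜ E M) : (Nat.card (sigmaCore M)).Coprime (Nat.card E) :=
  pnat_coprime (Msigma_pgroup M) hE.2.1

theorem sdprod_sigma (hG : IsMinSimpleOddOrder G) {M E : Subgroup G} (hM : IsCoatom M)
    (hE : IsPiHallOf (sigma M)ᶜ E M) : SDProd (sigmaCore M) E M :=
  sdprod_normal_pHall (Msigma_normal M) (Msigma_Hall hG hM) hE

/-- every complement of `M_σ` in `M` is a Hall `σ(M)'`-subgroup -/
theorem sigma_compl_of_sdprod (hG : IsMinSimpleOddOrder G) {M E : Subgroup G} (hM : IsCoatom M)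
    (hE : SDProd (sigmaCore M) E M) : IsPiHallOf (sigma M)ᶜ E M :=
  hE.compl_pHall.1 (Msigma_Hall hG hM)

/-- `M' = M_σ ⋊ E'` -/
theorem sdprod_der1_sigma (hG : IsMinSimpleOddOrder G) {M E : Subgroup G} (hM : IsCoatom M)
    (hE : IsPiHallOf (sigma M)ᶜ E M) : SDProd (sigmaCore M) ⁅E, E⁆ ⁅M, M⁆ := by
  have h := sdprod_sigma hG hM hE
  have h' := h.subr (der_sub E)
  rwa [le_antisymm (sup_le (Msigma_der1 hG hM) (dergS hE.1)) h.der_le] at h'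

theorem der1_sigma_compl (hG : IsMinSimpleOddOrder G) {M E : Subgroup G} (hM : IsCoatom M)
    (hE : IsPiHallOf (sigma M)ᶜ E M) : ⁅M, M⁆ ⊓ E = ⁅E, E⁆ := by
  refine ((sdprod_der1_sigma hG hM hE).eq_of_le_of_inf_eq_bot
    (le_inf (dergS hE.1) (der_sub E)) inf_le_left ?_).symm
  exact le_bot_iff.1 ((inf_le_inf_left _ inf_le_right).trans (sdprod_sigma hG hM hE).inf.le)

theorem X12.sigma'_rank_le (hG : IsMinSimpleOddOrder G) {M : Subgroup G} (hM : IsCoatom M) {p : ℕ}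
    (hp : p.Prime) (hps : p ∉ sigma M) : pRank p M ≤ 2 := by
  by_contra h
  exact hps (alpha_sub_sigma hG hM (mem_alpha_iff.2 ⟨hp, by omega⟩))

theorem partition_pi_mmax (hG : IsMinSimpleOddOrder G) {M : Subgroup G} (hM : IsCoatom M) (p : ℕ) :
    p ∈ piOf (Nat.card M) ↔ p ∈ tau1 M ∨ p ∈ tau2 M ∨ p ∈ tau3 M ∨ p ∈ sigma M := by
  constructor
  · rintro ⟨hp, hd⟩
    by_cases hs : p ∈ sigma M
    · exact Or.inr (Or.inr (Or.inr hs))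
    have h1 := X12.sigma'_rank_le hG hM hp hs
    have h2 := (X10.pRank_pos_iff hp).2 hd
    by_cases h3 : pRank p M = 2
    · exact Or.inr (Or.inl (mem_tau2_iff.2 ⟨hp, hs, h3⟩))
    by_cases h4 : p ∣ Nat.card ↥⁅M, M⁆
    · exact Or.inr (Or.inr (Or.inl (mem_tau3_iff.2 ⟨hp, hs, by omega, h4⟩)))
    · exact Or.inl (mem_tau1_iff.2 ⟨hp, hs, by omega, h4⟩)
  · rintro (h | h | h | h)
    exacts [tau1_sub_pi M h, tau2_sub_pi M h, tau3_sub_pi M h, sigma_sub_pi M h]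

theorem partition_pi_sigma_compl (hG : IsMinSimpleOddOrder G) {M E : Subgroup G} (hM : IsCoatom M)
    (hE : IsPiHallOf (sigma M)ᶜ E M) (p : ℕ) :
    p ∈ piOf (Nat.card E) ↔ p ∈ tau1 M ∨ p ∈ tau2 M ∨ p ∈ tau3 M := by
  constructor
  · rintro ⟨hp, hd⟩
    have h1 := (partition_pi_mmax hG hM p).1 ⟨hp, hd.trans (cardSg hE.1)⟩
    have h2 : p ∉ sigma M := hE.2.1 p hp hd
    tauto
  · rintro (h | h | h)
    · exact ⟨h.1, mem_pi_of_Hall_dvd hE h.1 h.2.1 (tau1_sub_pi M h).2⟩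
    · exact ⟨h.1, mem_pi_of_Hall_dvd hE h.1 h.2.1 (tau2_sub_pi M h).2⟩
    · exact ⟨h.1, mem_pi_of_Hall_dvd hE h.1 h.2.1 (tau3_sub_pi M h).2⟩

theorem pRank_sigma_compl {M E : Subgroup G} (hE : IsPiHallOf (sigma M)ᶜ E M) {p : ℕ}
    (hp : p.Prime) (hps : p ∉ sigma M) : pRank p E = pRank p M := X10.pRank_hall hp hE hps

theorem X12.sigma'_of_rank {M E : Subgroup G} (hE : IsPiHallOf (sigma M)ᶜ E M) {p : ℕ}
    (hp : p.Prime) (h : 1 ≤ pRank p E) : p ∉ sigma M :=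
  hE.2.1 p hp ((X10.pRank_pos_iff hp).1 h)

theorem X12.dvd_der1_compl (hG : IsMinSimpleOddOrder G) {M E : Subgroup G} (hM : IsCoatom M)
    (hE : IsPiHallOf (sigma M)ᶜ E M) {p : ℕ} (hp : p.Prime) (hps : p ∉ sigma M) :
    p ∣ Nat.card ↥⁅M, M⁆ ↔ p ∣ Nat.card ↥⁅E, E⁆ := by
  rw [(sdprod_der1_sigma hG hM hE).prime_dvd_card_iff hp]
  exact or_iff_right fun h => hps (Msigma_pgroup M p hp h)

theorem tau2E (hG : IsMinSimpleOddOrder G) {M E : Subgroup G} (hM : IsCoatom M)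
    (hE : IsPiHallOf (sigma M)ᶜ E M) (p : ℕ) :
    p ∈ tau2 M ↔ p.Prime ∧ pRank p E = 2 := by
  rw [mem_tau2_iff]
  refine and_congr_right fun hp => ⟨fun h => ?_, fun h => ?_⟩
  · rw [pRank_sigma_compl hE hp h.1, h.2]
  · have hs := X12.sigma'_of_rank hE hp (by omega)
    exact ⟨hs, by rw [← pRank_sigma_compl hE hp hs, h]⟩

theorem tau3E (hG : IsMinSimpleOddOrder G) {M E : Subgroup G} (hM : IsCoatom M)
    (hE : IsPiHallOf (sigma M)ᶜ E M) (p : ℕ) :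
    p ∈ tau3 M ↔ p.Prime ∧ pRank p E = 1 ∧ p ∣ Nat.card ↥⁅E, E⁆ := by
  rw [mem_tau3_iff]
  refine and_congr_right fun hp => ⟨fun h => ?_, fun h => ?_⟩
  · rw [pRank_sigma_compl hE hp h.1, ← X12.dvd_der1_compl hG hM hE hp h.1]; exact h.2
  · have hs := X12.sigma'_of_rank hE hp h.1.ge
    rw [← pRank_sigma_compl hE hp hs, X12.dvd_der1_compl hG hM hE hp hs]
    exact ⟨hs, h⟩

theorem tau1E (hG : IsMinSimpleOddOrder G) {M E : Subgroup G} (hM : IsCoatom M)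
    (hE : IsPiHallOf (sigma M)ᶜ E M) (p : ℕ) :
    p ∈ tau1 M ↔ p.Prime ∧ pRank p E = 1 ∧ ¬ p ∣ Nat.card ↥⁅E, E⁆ := by
  rw [mem_tau1_iff]
  refine and_congr_right fun hp => ⟨fun h => ?_, fun h => ?_⟩
  · rw [pRank_sigma_compl hE hp h.1, ← X12.dvd_der1_compl hG hM hE hp h.1]; exact h.2
  · have hs := X12.sigma'_of_rank hE hp h.1.ge
    rw [← pRank_sigma_compl hE hp hs, X12.dvd_der1_compl hG hM hE hp hs]
    exact ⟨hs, h⟩

theorem ex_tau2Elem (hG : IsMinSimpleOddOrder G) {M E : Subgroup G} (hM : IsCoatom M)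
    (hE : IsPiHallOf (sigma M)ᶜ E M) {p : ℕ} (hp : p ∈ tau2 M) :
    ∃ A : Subgroup G, A ∈ Elem p 2 E ∧ A ∈ Elem p 2 M := by
  obtain ⟨A, hA⟩ := (X10.le_pRank_iff hp.1).1 ((tau2E hG hM hE p).1 hp).2.ge
  exact ⟨A, hA, X12.elemS hE.1 hA⟩

/-- same, for `A ≤ M` and `p ∉ σ(M)` -/
theorem sigma'2Elem_tau2' (hG : IsMinSimpleOddOrder G) {M A : Subgroup G} (hM : IsCoatom M)
    {p : ℕ} (hp : p.Prime) (hps : p ∉ sigma M) (hA : A ∈ Elem p 2 M) : p ∈ tau2 M :=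
  mem_tau2_iff.2 ⟨hp, hps, le_antisymm (X12.sigma'_rank_le hG hM hp hps) (X12.le_pRank hp hA)⟩

theorem sigma'2Elem_tau2 (hG : IsMinSimpleOddOrder G) {M E A : Subgroup G} (hM : IsCoatom M)
    (hE : IsPiHallOf (sigma M)ᶜ E M) {p : ℕ} (hp : p.Prime) (hA : A ∈ Elem p 2 E) :
    p ∈ tau2 M :=
  sigma'2Elem_tau2' hG hM hp (hE.2.1 p hp (X12.elem_dvd hA)) (X12.elemS hE.1 hA)

/-- 12.1(a) -/
theorem der1_sigma_compl_nil (hG : IsMinSimpleOddOrder G) {M E : Subgroup G} (hM : IsCoatom M)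
    (hE : IsPiHallOf (sigma M)ᶜ E M) : Group.IsNilpotent ↥⁅E, E⁆ :=
  beta'_der1_nil hG hM
    (sub_pgroup (Set.compl_subset_compl.2 (beta_sub_sigma hG hM)) (pgroupS (der_sub E) hE.2.1))
    (dergS hE.1)

/-- 12.1(g) -/
theorem tau2_not_beta (hG : IsMinSimpleOddOrder G) {M : Subgroup G} (hM : IsCoatom M) {p : ℕ}
    (hp : p ∈ tau2 M) : ¬ IsIdealPrime p G ∧ Elem p 2 M ⊆ MaxElem p (⊤ : Subgroup G) :=
  ⟨sigma'_rank2_beta' hG hM hp.1 hp.2.1 (mem_tau2_iff.1 hp).2.2,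
    sigma'_rank2_max hG hM hp.1 hp.2.1⟩

/-- 12.1(b)-(f) -/
theorem sigma_compl_context (hG : IsMinSimpleOddOrder G) {M E E₁ E₂ E₃ : Subgroup G}
    (hM : IsCoatom M) (hE : SigmaCompl M E E₁ E₂ E₃) :
    (E₃ ≤ ⁅E, E⁆ ∧ E₃ ⊲ E) ∧ (E₂ = ⊥ → E₁ ≠ ⊥) ∧ (IsCyclic E₁ ∧ IsCyclic E₃) ∧
      (SDProd E₂ E₁ (E₂ ⊔ E₁) ∧ SDProd E₃ (E₂ ⊔ E₁) E ∧
        SDProd E₃ E₂ (E₃ ⊔ E₂) ∧ SDProd (E₃ ⊔ E₂) E₁ E) ∧ E₃ ⊓ 𝐂 E = ⊥ := by
  obtain ⟨hE, h1, h2, h3, n12⟩ := hE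
  have hs := sigma_compl_sol hG hM hE
  have hnil := der1_sigma_compl_nil hG hM hE
  have s3 : E₃ ≤ ⁅E, E⁆ := by
    refine le_of_forall_Sylow_le fun r hr hd => ?_
    obtain ⟨R, hR⟩ := Sylow_exists r E₃
    have hr3 := h3.2.1 r hr.out hd
    have hRE := subHall_Sylow h3 hr3 hR
    refine ⟨R, hR, (cyclic_Sylow_tiVsub_der1 hr.out hRE
      (tau13_pgroup_cyclic hG (Or.inr hr3) (Sylow_pgroup hR) (hRE.1.trans hE.1))).resolve_left ?_⟩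
    exact Sylow_ne_bot (setI_normal_Hall (der_normal E) hRE) ((tau3E hG hM hE r).1 hr3).2.2
  have n3 : E₃ ⊲ E := ⟨h3.1, (der_normal E).2.trans
    (nilpotent_Hall_norm hnil (pHall_subl s3 (der_sub E) h3))⟩
  have c3 : IsCyclic E₃ := X12.tau13_nil_cyclic hG (h3.1.trans hE.1)
    (sub_pgroup Set.subset_union_right h3.2.1) (nilpotentS s3 hnil)
  have c1 : IsCyclic E₁ := by
    refine X12.tau13_nil_cyclic hG (h1.1.trans hE.1)
      (sub_pgroup Set.subset_union_left h1.2.1) (abelian_nil (abelian_iff_der.2 ?_))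
    by_contra hne
    obtain ⟨r, hr, hd⟩ := exists_prime_dvd_card hne
    exact (h1.2.1 r hr (hd.trans (cardSg (der_sub E₁)))).2.2.2.1
      (hd.trans (cardSg (dergS (h1.1.trans hE.1))))
  have d21 : SDProd E₂ E₁ (E₂ ⊔ E₁) :=
    SDProd.of_eq_sup n12 (coprime_TIg (pnat_coprime h2.2.1 (sub_pgroup (tau2'1 M) h1.2.1)))
  have d3 : SDProd E₃ (E₂ ⊔ E₁) E := by
    refine sdprod_normal_pHall n3 h3 (pHall_of (sup_le h2.1 h1.1)
      (pgroupY n12 (sub_pgroup (tau3'2 M) h2.2.1) (sub_pgroup (tau3'1 M) h1.2.1)) ?_)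
    intro r hr hd
    rw [compl_compl]
    have e1 := h1.2.2 r hr
    have e2 := h2.2.2 r hr
    rcases (partition_pi_sigma_compl hG hM hE r).1
      ⟨hr, hd.trans (Subgroup.relIndex_dvd_card _ _)⟩ with h | h | h
    · exact absurd (hd.trans (Subgroup.relIndex_dvd_of_le_left E le_sup_right)) (e1 h)
    · exact absurd (hd.trans (Subgroup.relIndex_dvd_of_le_left E le_sup_left)) (e2 h)
    · exact h
  refine ⟨⟨s3, n3⟩, ?_, ⟨c1, c3⟩, ⟨d21, d3, (d21.assoc' d3).1, (d21.assoc' d3).2⟩, ?_⟩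
  · rintro rfl rfl
    have e3 : E₃ = E := d3.eq_left_of_right_eq_bot (sup_bot_eq _)
    have e : E = ⊥ := by
      by_contra hne
      exact (sol_der1_proper hs hne).not_ge (e3 ▸ s3)
    have eM := (sdprod_sigma hG hM hE).eq_left_of_right_eq_bot e
    exact (sol_der1_proper (X10.sol hG hM.1) (X10.mmax_ne_bot hG hM)).not_ge
      (eM.ge.trans (Msigma_der1 hG hM))
  · have h := (X12.coprime_der1_sdprod d3 (d3.isHallOf_left_iff.1 (pHall_Hall h3)) hs s3).2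
    rw [abelian_iff_der.1 (cyclic_abelian c3)] at h
    exact le_bot_iff.1 ((inf_le_inf_left _ (centS d3.le_right)).trans h)

/-- 12.2(a) -/
theorem prime_class_mmax_norm (hG : IsMinSimpleOddOrder G) {M X : Subgroup G} (hM : IsCoatom M)
    {p : ℕ} (hp : p.Prime) (hX : IsPGroup p X) (hN : 𝐍 X ≤ M) :
    p ∈ sigma M ∨ p ∈ tau2 M := by
  by_cases h : p ∈ sigma M
  · exact Or.inl h
  · exact Or.inr (mem_tau2_iff.2 ⟨hp, h, sigma'_norm_mmax_rank2 hG hM hp h hX hN⟩)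

/-- 12.2(b) -/
theorem mmax_norm_notJ (hG : IsMinSimpleOddOrder G) {M Mstar X : Subgroup G} (hM : IsCoatom M)
    (hMstar : IsCoatom Mstar) {p : ℕ} (hX : IsPGroup p X) (hXM : X ≤ M)
    (hN : 𝐍 X ≤ Mstar) (h : (p ∈ sigma M ∧ M ≠ Mstar) ∨ p ∈ tau1 M ∨ p ∈ tau3 M) :
    ¬ ConjIn ⊤ M Mstar := by
  rintro ⟨g, -, rfl⟩
  rcases h with ⟨hp, hne⟩ | h
  · obtain ⟨c, hc, e⟩ := (sigma_group_trans hG hM hp hX).2.1 g 1 ((normG X).trans hN)
      (by rwa [conj_one_smul])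
    rw [conj_one_smul, conjGid (hN (cent_sub X hc))] at e
    exact hne e
  · have hp : p.Prime := h.elim (·.1) (·.1)
    have := prime_class_mmax_norm hG hMstar hp hX hN
    rw [sigmaJ, tau2J] at this
    rcases h with h | h <;> rcases this with h' | h'
    exacts [h.2.1 h', tau2'1 M h h', h.2.1 h', tau3'2 M h' h]

end Cfsg.Lib.FT
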