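import Cfsg.Agent.FT.BG12.T7

/-! Bender-Glauberman 12.8 - 12.10. -/

set_option autoImplicit false
set_option linter.unusedSectionVars false

open Pointwise Cfsg Cfsg.Lib.Solv

namespace Cfsg.Lib.FT

variable {G : Type*} [Group G] [Finite G]

theorem X12.sigma'_rank2 (hG : IsMinSimpleOddOrder G) {M K : Subgroup G} (hM : IsCoatom M)
    (hKM : K ≤ M) (hK : IsPiSubgroup (sigma M)ᶜ K) : rank K ≤ 2 :=
  alpha'_rank_le hKM (sub_pgroup (Set.compl_subset_compl.2 (alpha_sub_sigma hG hM)) hK)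

theorem X12.Fitting_eq_cent {A H S : Subgroup G} {p : ℕ} (hp : p.Prime) (hA : IsPGroup p A)
    (hS : IsSylowOf p S ⊤) (hab : IsMulCommutative S) (nA : A ⊲ H) (hC : 𝐂 A ≤ H) :
    fittingOf H = fittingOf (𝐂 A) := by
  have := Fact.mk hp
  refine le_antisymm (Fitting_max (normalS ?_ hC (Fitting_normal H)) (Fitting_nil H))
    (Fitting_normal_le ⟨hC, norms_cent nA.2⟩)
  exact X12.nil_le_cent (π := {p}) (Fitting_nil H)
    (X12.Sylow_abelian_pgroup hp hS hab (pcore_isPGroup p _) le_top)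
    (Fitting_max nA (pgroup_nil hA)) (pgroup_iff.2 hA)

theorem X12.abelian_tau2_Ohm (hG : IsMinSimpleOddOrder G) {M E A S : Subgroup G}
    (hM : IsCoatom M) (hE : IsPiHallOf (sigma M)ᶜ E M) {p : ℕ} (hp : p ∈ tau2 M)
    (hA : A ∈ Elem p 2 E) (hS : IsSylowOf p S ⊤) (hAS : A ≤ S) (hab : IsMulCommutative S) :
    omegaOne p S = A := by
  have hCA := (tau2_compl_context hG hM hE hp hA).2.1.1
  have hSM : S ≤ M := (abelian_le_cent hab).trans ((centS hAS).trans (hCA.trans hE.1))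
  exact (((tau2_context hG hM hp (X12.elemS hE.1 hA)).1 S (pHall_subl hSM le_top hS)).2 hAS).1

/-- 12.8(c) -/
theorem abelian_tau2_sub_Fitting (hG : IsMinSimpleOddOrder G) {M E A S : Subgroup G}
    (hM : IsCoatom M) (hE : IsPiHallOf (sigma M)ᶜ E M) {p : ℕ} (hp : p ∈ tau2 M)
    (hA : A ∈ Elem p 2 E) (hS : IsSylowOf p S ⊤) (hAS : A ≤ S) (hab : IsMulCommutative S) :
    S ≤ ⁅𝐍 S, 𝐍 S⁆ ∧ ⁅𝐍 S, 𝐍 S⁆ ≤ fittingOf E ∧ fittingOf E ≤ 𝐂 S ∧ 𝐂 S ≤ E := by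
  have := Fact.mk hp.1
  obtain ⟨⟨nA, -⟩, ⟨hCA, -⟩, -⟩ := tau2_compl_context hG hM hE hp hA
  have hAp := X10.elem_pgroup hA
  have e : fittingOf (𝐍 A) = fittingOf E := by
    rw [X12.Fitting_eq_cent hp.1 hAp hS hab nA hCA,
      X12.Fitting_eq_cent hp.1 hAp hS hab (normalG A) (cent_sub A)]
  have h1 := mFT_Sylow_der1 hG hp.1 hS
  have h2 : ⁅𝐍 S, 𝐍 S⁆ ≤ fittingOf E := by
    have hN : 𝐍 S ≤ 𝐍 A := X12.abelian_tau2_Ohm hG hM hE hp hA hS hAS hab ▸ norm_Ohm p S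
    rw [← e]
    refine (dergS hN).trans (rank2_der1_sub_Fitting (mFT_odd hG _)
      (mFT_sol hG (X12.norm_elem_ne_top hG hp.1 hA)) ?_)
    rw [e]
    exact (rankS (Fitting_sub E)).trans (X12.sigma'_rank2 hG hM hE.1 hE.2.1)
  exact ⟨h1, h2, X12.nil_le_cent_Hall (Fitting_nil E) (pHall_subl (h1.trans h2) le_top hS) hab,
    (centS hAS).trans hCA⟩

/-- 12.10(a) -/
theorem sigma'_nil_abelian (hG : IsMinSimpleOddOrder G) {M N : Subgroup G} (hM : IsCoatom M)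
    (hNM : N ≤ M) (hN : IsPiSubgroup (sigma M)ᶜ N) (hnil : Group.IsNilpotent N) :
    IsMulCommutative N := by
  refine X12.nil_abelian_of_Sylow hnil fun r hr hd R hR => ?_
  have hRp := X10.syl_pgroup hr hR
  rcases (partition_pi_mmax hG hM r).1 ⟨hr, hd.trans (cardSg hNM)⟩ with h | h | h | h
  · exact cyclic_abelian (tau13_pgroup_cyclic hG (Or.inl h) hRp (hR.1.trans hNM))
  · exact X12.tau2_pgroup_abelian hG hM h hRp (hR.1.trans hNM)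
  · exact cyclic_abelian (tau13_pgroup_cyclic hG (Or.inr h) hRp (hR.1.trans hNM))
  · exact absurd h (hN r hr hd)

/-- in 12.8 the Sylow `q`-subgroups of `G` are abelian for all `q ∈ τ₂(M)` -/
theorem X12.abelian_tau2_Sylow (hG : IsMinSimpleOddOrder G) {M S Q : Subgroup G} (hM : IsCoatom M)
    {p q : ℕ} (hp : p ∈ tau2 M) (hS : IsSylowOf p S ⊤) (hab : IsMulCommutative S)
    (hq : q ∈ tau2 M) (hQ : IsPGroup q Q) : IsMulCommutative Q := by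
  by_contra hna
  have e := X12.nonabelian_tau2_eq hG hM hq hQ hna
  obtain rfl : p = q := (e ▸ hp : p ∈ ({q} : Set ℕ))
  exact hna (X12.Sylow_abelian_pgroup hp.1 hS hab hQ le_top)

/-- 12.8(a,b,d,e,f) -/
theorem abelian_tau2 (hG : IsMinSimpleOddOrder G) {M E E₁ E₂ E₃ A S : Subgroup G}
    (hM : IsCoatom M) (hE : SigmaCompl M E E₁ E₂ E₃) {p : ℕ} (hp : p ∈ tau2 M)
    (hA : A ∈ Elem p 2 E) (hS : IsSylowOf p S ⊤) (hAS : A ≤ S) (hab : IsMulCommutative S) :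
    (E₂ ⊲ E ∧ IsMulCommutative E₂) ∧ IsPiHallOf (tau2 M) E₂ ⊤ ∧
      (𝐍 A = 𝐍 S ∧ 𝐍 S = 𝐍 E₂ ∧ 𝐍 E₂ = 𝐍 (E₃ ⊔ E₂) ∧ 𝐍 (E₃ ⊔ E₂) = 𝐍 (fittingOf E)) ∧
      (∀ (q : ℕ) (X : Subgroup G), q.Prime → X ∈ Elem q 1 E₁ → sigmaCore M ⊓ 𝐂 X = ⊥ →
        X ≤ centerOf E) ∧
      ∀ X : Subgroup G, X ≤ 𝐍 S → (S ⊓ 𝐂 X) ⊲ 𝐍 S ∧ ⁅S, X⁆ ⊲ 𝐍 S := by
  have := Fact.mk hp.1
  have hH := hE.hallE
  obtain ⟨⟨nA, -⟩, ⟨hCA, -, hNA⟩, -⟩ := tau2_compl_context hG hM hH hp hA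
  obtain ⟨⟨-, n3⟩, -, ⟨c1, c3⟩, ⟨-, -, -, d1⟩, -⟩ := sigma_compl_context hG hM hE
  obtain ⟨h1, h2, h3, -⟩ := abelian_tau2_sub_Fitting hG hM hH hp hA hS hAS hab
  have hFnil := Fitting_nil E
  have hT : IsPiHallOf (tau2 M) (piCoreOf (tau2 M) (fittingOf E)) ⊤ := by
    refine ⟨le_top, pcore_pgroup _ _, fun q hq' hq hd => ?_⟩
    obtain ⟨B, hB, -⟩ := ex_tau2Elem hG hM hH hq
    obtain ⟨Q, hQ, hBQ⟩ := X10.syl_superset hq' (X10.elem_pgroup hB) le_top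
    have hQq := X10.syl_pgroup hq' hQ
    obtain ⟨k1, k2, -⟩ := abelian_tau2_sub_Fitting hG hM hH hq hB hQ hBQ
      (X12.abelian_tau2_Sylow hG hM hp hS hab hq hQq)
    exact X10.syl_not_dvd hq' hQ (hd.trans (Subgroup.relIndex_dvd_of_le_left _
      (nilpotent_sub_pcore hFnil (k1.trans k2) (X10.pi_of_pgroup hq' hq hQq))))
  have nT : piCoreOf (tau2 M) (fittingOf E) ⊲ E := pcore_normal_trans _ (Fitting_normal E)
  have e2 : E₂ = piCoreOf (tau2 M) (fittingOf E) :=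
    sub_pHall hT hE.hall2.2.1 (normal_sub_Hall hE.hall2 (pcore_pgroup _ _) nT) le_top
  have s2 : E₂ ≤ fittingOf E := e2 ▸ pcore_sub _ _
  have s3 : E₃ ≤ fittingOf E := Fitting_max n3 (abelian_nil (cyclic_abelian c3))
  rw [← e2] at hT nT
  have hF2 := pHall_subl s2 (Fitting_sub E) hE.hall2
  have hF3 := pHall_subl s3 (Fitting_sub E) hE.hall3
  have ab2 : IsMulCommutative E₂ := sigma'_nil_abelian hG hM (nT.1.trans hH.1)
    (pgroupS nT.1 hH.2.1) (nilpotentS s2 hFnil)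
  have hS2 : S ≤ E₂ := e2 ▸ nilpotent_sub_pcore hFnil (h1.trans h2) (pi_pgroup (Sylow_pgroup hS) hp)
  have l1 : 𝐍 A ≤ 𝐍 (fittingOf E) := by
    rw [X12.Fitting_eq_cent hp.1 (X10.elem_pgroup hA) hS hab nA hCA]
    exact (norms_cent le_rfl).trans (norm_Fitting _)
  have l2 : 𝐍 (fittingOf E) ≤ 𝐍 (E₃ ⊔ E₂) :=
    normsY (nilpotent_Hall_norm hFnil hF3) (nilpotent_Hall_norm hFnil hF2)
  have l3 : 𝐍 (E₃ ⊔ E₂) ≤ 𝐍 E₂ := nilpotent_Hall_norm (nilpotentS (sup_le s3 s2) hFnil)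
    (pHall_subl le_sup_right (sup_le s3 s2) hF2)
  have l4 : 𝐍 E₂ ≤ 𝐍 S := nilpotent_Hall_norm (abelian_nil ab2) (pHall_subl hS2 le_top hS)
  have l5 : 𝐍 S ≤ 𝐍 A := X12.abelian_tau2_Ohm hG hM hH hp hA hS hAS hab ▸ norm_Ohm p S
  refine ⟨⟨nT, ab2⟩, hT, ⟨le_antisymm (l1.trans (l2.trans (l3.trans l4))) l5,
    le_antisymm (l5.trans (l1.trans (l2.trans l3))) l4,
    le_antisymm (l4.trans (l5.trans (l1.trans l2))) l3,
    le_antisymm (l3.trans (l4.trans (l5.trans l1))) l2⟩, fun q X hq hX hreg => ?_, fun X hX => ?_⟩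
  · have hFK : fittingOf E ≤ 𝐂 (E₃ ⊔ E₂) := by
      rw [cent_sup]
      exact le_inf (X12.nil_le_cent_Hall hFnil hF3 (cyclic_abelian c3))
        (X12.nil_le_cent_Hall hFnil hF2 ab2)
    have hXE : X ≤ E := hX.1.trans hE.hall1.1
    have hq1 : q ∈ tau1 M := hE.hall1.2.1 q hq (X12.elem_dvd hX)
    have hKE : E₃ ⊔ E₂ ≤ E := d1.le_left
    obtain ⟨-, -, hn⟩ := commG_sigma'_1Elem_cyclic hG hM (hKE.trans hH.1) (pgroupS hKE hH.2.1) hq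
      hq1.2.1 (X10.elem_mono hX (le_inf (hXE.trans hH.1) (hXE.trans d1.norm_left))) hreg
      (pgroupY (nT.1.trans n3.2) (pi_p'group hE.hall3.2.1 (tau3'1 M hq1))
        (pi_p'group hE.hall2.2.1 (tau2'1 M hq1)))
      (abelian_iff.2 ((sup_le s3 s2).trans hFK))
    have hb : ⁅E₃ ⊔ E₂, X⁆ = ⊥ := by
      by_contra hne
      apply hNA
      rw [← mmax_normal hG hM hn hne]
      refine (l1.trans (l2.trans (l3.trans l4))).trans (X12.norms_of_der_cent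
        (l5.trans (l1.trans l2)) (h2.trans hFK) ?_).2
      exact hXE.trans (nA.2.trans (l1.trans (l2.trans (l3.trans l4))))
    refine le_inf hXE ?_
    rw [← d1.sup, cent_sup]
    exact le_inf (centsC.1 (commG1P.1 hb)) (hX.1.trans (abelian_le_cent (cyclic_abelian c1)))
  · obtain ⟨k1, k2⟩ := X12.norms_of_der_cent le_rfl (h2.trans h3) hX
    exact ⟨⟨inf_le_left.trans (normG S), k1⟩, ⟨(commg_subl.2 hX).trans (normG S), k2⟩⟩

/-- 12.9, with `A₀ = [A, Q]`, `A₁ = C_A(Q)` -/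
theorem tau1_act_tau2 (hG : IsMinSimpleOddOrder G) {M E A Q : Subgroup G} (hM : IsCoatom M)
    (hE : IsPiHallOf (sigma M)ᶜ E M) {p q : ℕ} (hp : p ∈ tau2 M) (hA : A ∈ Elem p 2 E)
    (hq : q ∈ tau1 M) (hQ : Q ∈ Elem q 1 E) (hreg : sigmaCore M ⊓ 𝐂 Q = ⊥) (hne : ⁅A, Q⁆ ≠ ⊥) :
    (⁅A, Q⁆ ∈ Elem p 1 A ∧ A ⊓ 𝐂 (sigmaCore M) = ⁅A, Q⁆ ∧ ⁅A, Q⁆ ⊲ M) ∧
      ¬ ConjIn ⊤ (A ⊓ 𝐂 Q) ⁅A, Q⁆ ∧ (A ⊓ 𝐂 Q ∈ Elem p 1 A ∧ ¬ 𝐂 (A ⊓ 𝐂 Q) ≤ M) := by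
  have := Fact.mk hp.1
  have := Fact.mk hq.1
  have hAM := X12.elemS hE.1 hA
  have hqp : p ≠ q := fun e => tau2'1 M hq (e ▸ hp)
  obtain ⟨⟨nA, hE1⟩, -⟩ := tau2_compl_context hG hM hE hp hA
  obtain ⟨-, -, hC, -⟩ := tau2_context hG hM hp hAM
  have nAQ : Q ≤ 𝐍 A := hQ.1.trans nA.2
  have hdp := coprime_abelian_cent_dprod nAQ
    (pgroup_coprime_of_ne (X10.elem_pgroup hA) (X10.elem_pgroup hQ) hqp) (X12.elem_ab hA)
  obtain ⟨hc0, hcyc, n0⟩ := commG_sigma'_1Elem_cyclic hG hM hAM.1 (X12.elem_pi hp.1 hA hp.2.1) hq.1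
    hq.2.1 (X10.elem_mono hQ (le_inf (hQ.1.trans hE.1) nAQ)) hreg (X12.elem_pi hp.1 hA hqp)
    (X12.elem_ab hA)
  have hA₀ : ⁅A, Q⁆ ∈ Elem p 1 A := X12.elem1_of_lt hp.1 hA hdp.le_left hne
    fun e => X12.elem2_noncyclic hp.1 hA (e ▸ hcyc)
  have hdef : A ⊓ 𝐂 (sigmaCore M) = ⁅A, Q⁆ := by
    by_contra h
    have := X12.eq_of_elem1_lt hp.1 hA hA₀
      (lt_of_le_of_ne (le_inf hA₀.1 hc0) (Ne.symm h)) inf_le_left
    rw [inf_eq_left, centsC, ← inf_eq_left, hC] at this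
    exact Msigma_neq1 hG hM this.symm
  have hA₁ : A ⊓ 𝐂 Q ∈ Elem p 1 A := by
    refine X12.elem1_of_lt hp.1 hA inf_le_left (fun e => ?_) fun e => hne ?_
    · exact (X12.elem1_lt hp.1 hA hA₀).ne (hdp.sdprod.eq_left_of_right_eq_bot e)
    · exact commG1P.2 (inf_eq_left.1 e)
  refine ⟨⟨hA₀, hdef, n0⟩, ?_, hA₁, ?_⟩
  · rintro ⟨g, -, hg⟩
    have hN := mmax_normal hG hM n0 hne
    have h1 : g •ᶜ Q ≤ 𝐂 ⁅A, Q⁆ := by
      rw [hg, centJ, conjSg]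
      exact centsC.1 inf_le_right
    obtain ⟨R, hR, hQR⟩ := Sylow_superset (hQ.1.trans hE.1) (X10.elem_pgroup hQ)
    obtain ⟨m, hm, hmR⟩ := Sylow_Jsub hR (h1.trans ((cent_sub _).trans hN.le))
      ((isPGroupJ g).2 (X10.elem_pgroup hQ))
    have e := X12.elem1_cyclic_uniq hq.1 (tau13_pgroup_cyclic hG (Or.inl hq) (Sylow_pgroup hR) hR.1)
      (X10.elem_mono (X10.elemJ (X10.elemJ hQ g) m) hmR) (X10.elem_mono hQ hQR)
    have h2 : Q ≤ 𝐂 ⁅A, Q⁆ := by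
      have := conj_sub_norm (norms_cent n0.2 hm) h1
      rwa [e] at this
    exact hne (le_bot_iff.1 ((le_inf le_rfl (le_inf hA₀.1 (centsC.1 h2))).trans hdp.inf.le))
  · obtain ⟨S, hS, hAS⟩ := Sylow_superset (le_top : A ≤ ⊤) (X10.elem_pgroup hA)
    by_cases hab : IsMulCommutative S
    · obtain ⟨E₁, E₂, E₃, hc, hQ1⟩ := ex_sigmaCompl_of_tau1 hG hM hE hQ.1 (X12.elem_pi hq.1 hQ hq)
      have := (abelian_tau2 hG hM hc hp hA hS hAS hab).2.2.2.1 q Q hq.1 (X10.elem_mono hQ hQ1) hreg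
      exact absurd (commG1P.2 (centsC.1 (this.trans (inf_le_right.trans (centS hA.1))))) hne
    · refine ((nonabelian_tau2 hG hM hE hp hA (Sylow_pgroup hS) hab).2.2.1 _ (hE1 ▸ hA₁)
        fun e => hne ?_).2
      have := hdp.inf
      rwa [e, hdef, inf_idem] at this

/-- 12.10(b), first assertion -/
theorem der_mmax_compl_abelian (hG : IsMinSimpleOddOrder G) {M E : Subgroup G} (hM : IsCoatom M)
    (hE : IsPiHallOf (sigma M)ᶜ E M) : IsMulCommutative ↥⁅E, E⁆ :=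
  sigma'_nil_abelian hG hM ((der_sub E).trans hE.1) (pgroupS (der_sub E) hE.2.1)
    (der1_sigma_compl_nil hG hM hE)

/-- 12.10(b), second assertion -/
theorem tau2_compl_abelian (hG : IsMinSimpleOddOrder G) {M E E₁ E₂ E₃ : Subgroup G}
    (hM : IsCoatom M) (hE : SigmaCompl M E E₁ E₂ E₃) : IsMulCommutative E₂ := by
  by_cases h : E₂ = ⊥
  · rw [h]; exact abelian_bot
  obtain ⟨p, hp', hd⟩ := exists_prime_dvd_card h
  have := Fact.mk hp'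
  have hp := hE.hall2.2.1 p hp' hd
  obtain ⟨A, hA, -⟩ := ex_tau2Elem hG hM hE.hallE hp
  obtain ⟨S, hS, hAS⟩ := Sylow_superset (le_top : A ≤ ⊤) (X10.elem_pgroup hA)
  by_cases hab : IsMulCommutative S
  · exact (abelian_tau2 hG hM hE hp hA hS hAS hab).1.2
  · have e := X12.nonabelian_tau2_eq hG hM hp (Sylow_pgroup hS) hab
    exact X12.tau2_pgroup_abelian hG hM hp (pgroup_iff.1 (e ▸ pHall_pgroup hE.hall2))
      (hE.hall2.1.trans hE.hallE.1)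

/-- 12.10(c): `E₂ E₃ ≤ C(A)` -/
theorem tau23_cent_tau2Elem (hG : IsMinSimpleOddOrder G) {M E E₁ E₂ E₃ A : Subgroup G}
    (hM : IsCoatom M) (hE : SigmaCompl M E E₁ E₂ E₃) {p : ℕ} (hp : p ∈ tau2 M)
    (hA : A ∈ Elem p 2 E) : E₃ ⊔ E₂ ≤ 𝐂 A :=
  sup_le (X12.tau3_cent_tau2Elem hG hM hE hp hA)
    ((abelian_le_cent (tau2_compl_abelian hG hM hE)).trans
      (centS (tau2_regular hG hM hE hp hA).2.2))

/-- 12.10(c): `E / C_E(A)` is a `τ₁(M)`-group -/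
theorem tau1_cent_tau2Elem_factor (hG : IsMinSimpleOddOrder G) {M E A : Subgroup G}
    (hM : IsCoatom M) (hE : IsPiHallOf (sigma M)ᶜ E M) {p : ℕ} (hp : p ∈ tau2 M)
    (hA : A ∈ Elem p 2 E) : PiNum (tau1 M) ((𝐂 A).relIndex E) := by
  obtain ⟨E₁, E₂, E₃, hc⟩ := X12.ex_sigmaCompl hG hM hE
  intro r hr hd
  refine hc.hall1.2.1 r hr ?_
  rw [← (sigma_compl_context hG hM hc).2.2.2.1.2.2.2.relIndex_left]
  exact hd.trans (Subgroup.relIndex_dvd_of_le_left _ (tau23_cent_tau2Elem hG hM hc hp hA))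

/-- a `τ₁(M)'`-subgroup of `E` centralizes `A` -/
theorem X12.tau1'_cent_tau2Elem (hG : IsMinSimpleOddOrder G) {M E A X : Subgroup G}
    (hM : IsCoatom M) (hE : IsPiHallOf (sigma M)ᶜ E M) {p : ℕ} (hp : p ∈ tau2 M)
    (hA : A ∈ Elem p 2 E) (hXE : X ≤ E) (hX : IsPiSubgroup (tau1 M)ᶜ X) : X ≤ 𝐂 A := by
  obtain ⟨E₁, E₂, E₃, hc⟩ := X12.ex_sigmaCompl hG hM hE
  exact ((sigma_compl_context hG hM hc).2.2.2.1.2.2.2.le_left_of_coprime hXE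
    (p'nat_coprime hX hc.hall1.2.1)).trans (tau23_cent_tau2Elem hG hM hc hp hA)

/-- 12.10(d) -/
theorem norm_noncyclic_sigma (hG : IsMinSimpleOddOrder G) {M P : Subgroup G} (hM : IsCoatom M)
    {p : ℕ} (hp : p ∈ sigma M) (hP : IsPGroup p P) (hPM : P ≤ M) (hnc : ¬ IsCyclic P) :
    𝐍 P ≤ M := by
  obtain ⟨A, hA⟩ := X12.ex_elem2 hG (sigma_prime hp) hP hnc
  rw [← (sigma_group_trans hG hM hp hP).2.2 hPM]
  exact sup_le ((centS hA.1).trans (p2Elem_mmax hG hM (sigma_prime hp) (X12.elemS hPM hA)).1)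
    inf_le_left

/-- 12.10(e) -/
theorem cent1_nreg_sigma_uniq (hG : IsMinSimpleOddOrder G) {M : Subgroup G} (hM : IsCoatom M)
    {x : G} (hxM : x ∈ M) (hx1 : x ≠ 1) (hx : PiElt (tau2 M) x)
    (hne : sigmaCore M ⊓ 𝐂₁ x ≠ ⊥) : UniqMax (𝐂₁ x) M := by
  have hX : IsPiSubgroup (tau2 M) (Subgroup.zpowers x) := pgroup_zpowers.2 hx
  obtain ⟨E, hE, hxE⟩ := ex_sigma_compl hG hM (Subgroup.zpowers_le.2 hxM)
    (sub_pgroup (tau2_sub_sigma' M) hX)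
  obtain ⟨p, hp', hd⟩ := exists_prime_dvd_card (Subgroup.zpowers_ne_bot.2 hx1)
  have hp := hX p hp' hd
  obtain ⟨A, hA, hAM⟩ := ex_tau2Elem hG hM hE hp
  have hAx : A ≤ 𝐂₁ x := by
    rw [← cent_zpowers, centsC]
    exact X12.tau1'_cent_tau2Elem hG hM hE hp hA hxE
      (sub_pgroup (fun r h h' => tau2'1 M h' h) hX)
  have key : ∀ L, IsCoatom L → 𝐂₁ x ≤ L → L = M := by
    intro L hL hxL
    by_contra hLM
    exact hne (le_bot_iff.1 ((inf_le_inf_left _ hxL).trans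
      ((tau2_context hG hM hp hAM).2.2.2.1 L hL (hAx.trans hxL) hLM).le))
  obtain ⟨L, hL, hxL⟩ := mmax_exists_cent1 hG hx1
  exact ⟨hM, key L hL hxL ▸ hxL, key⟩

end Cfsg.Lib.FT
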